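import Cfsg.Agent.Spor.ThU.D0

set_option autoImplicit false
set_option maxRecDepth 100000000
set_option Elab.async false

namespace Cfsg.Agent.Spor.ThU

theorem ok0 : Net.okb 15 n0 = true := by decide +kernel

theorem ok1 : Net.okb 15 n1 = true := by decide +kernel

theorem ok2 : Net.okb 15 n2 = true := by decide +kernel

theorem ok3 : Net.okb 15 n3 = true := by decide +kernel

theorem ok4 : Net.okb 15 n4 = true := by decide +kernel

theorem ok5 : Net.okb 15 n5 = true := by decide +kernel

theorem ok6 : Net.okb 15 n6 = true := by decide +kernel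

theorem rel0 : T.rel 15 [1, 1] 0 15 = true := by decide +kernel

theorem rel1 : T.rel 15 [2, 2] 0 15 = true := by decide +kernel

theorem rel2 : T.rel 15 [3, 3] 0 15 = true := by decide +kernel

theorem rel3 : T.rel 15 [4, 4] 0 15 = true := by decide +kernel

theorem rel4 : T.rel 15 [5, 5] 0 15 = true := by decide +kernel

theorem rel5 : T.rel 15 [2, 1, 2, 1, 2, 1] 0 15 = true := by decide +kernel

theorem rel6 : T.rel 15 [5, 1, 5, 1] 0 15 = true := by decide +kernel

theorem rel7 : T.rel 15 [3, 2, 3, 2, 3, 2] 0 15 = true := by decide +kernel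

theorem rel8 : T.rel 15 [4, 2, 4, 2] 0 15 = true := by decide +kernel

theorem rel9 : T.rel 15 [5, 2, 5, 2] 0 15 = true := by decide +kernel

theorem rel10 : T.rel 15 [10, 11, 10, 11, 10, 11, 10, 11, 1] 0 15 = true := by decide +kernel

theorem rel11 : T.rel 15 [5, 3, 5, 3] 0 15 = true := by decide +kernel

theorem rel12 : T.rel 15 [5, 4, 5, 4, 5, 4] 0 15 = true := by decide +kernel

theorem rel13 : T.rel 15 [5, 4, 3, 2, 5, 4, 3, 2, 5, 4, 3, 2, 5, 4, 3, 2, 5, 4, 3, 2, 5, 4, 3, 2, 5, 4, 3, 2, 5, 4, 3, 2] 0 15 = true := by decide +kernel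

theorem rel14 : T.rel 15 [6, 6, 6, 6, 6, 6, 6] 0 15 = true := by decide +kernel

theorem rel15 : T.rel 15 [1, 6, 8, 13] 0 15 = true := by decide +kernel

theorem rel16 : T.rel 15 [2, 6, 9, 13] 0 15 = true := by decide +kernel

theorem rel17 : T.rel 15 [3, 6, 10, 13] 0 15 = true := by decide +kernel

theorem rel18 : T.rel 15 [4, 6, 4, 6] 0 15 = true := by decide +kernel

theorem rel19 : T.rel 15 [6, 6, 6, 12, 13, 13, 5, 13, 12] 0 15 = true := by decide +kernel

theorem rel20 : T.rel 15 [7, 7, 7] 0 15 = true := by decide +kernel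

theorem rel21 : T.rel 15 [1, 7, 8, 14] 0 15 = true := by decide +kernel

theorem rel22 : T.rel 15 [2, 7, 9, 14] 0 15 = true := by decide +kernel

theorem rel23 : T.rel 15 [3, 7, 10, 14] 0 15 = true := by decide +kernel

theorem rel24 : T.rel 15 [4, 7, 11, 14] 0 15 = true := by decide +kernel

theorem rel25 : T.rel 15 [5, 7, 12, 14] 0 15 = true := by decide +kernel

theorem rel26 : T.rel 15 [13, 13, 7, 6, 14] 0 15 = true := by decide +kernel

end Cfsg.Agent.Spor.ThU
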